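import Groth.Agent.ResProp.EF.K416.Cobar
import Groth.Agent.ResProp.EF.K83.FinDatum
import Groth.Agent.ResProp.EF.Fin669.Fam
import Mathlib.RingTheory.HopfAlgebra.GroupLike

/-!
# Twists of Hopf modules, multiplication by semi-invariants, and the long exact sequences (`S16912`, G6a, T5)

`HM c`: bundled Hopf modules over the comodule algebra `c`.  `χ` group-like, `N.tw hχ n` is `N` with the coaction times
`χ^(-n)`; `x` is the operator on `Vf N j n = H^j(N.tw n)` given by semi-invariants `s i` of weight `χ`.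
-/

set_option autoImplicit false
universe u

open TensorProduct

noncomputable section

namespace Groth.Agent.ResProp.EF.K416

open K187.HochMap (map map_comp map_id map_succ d_map d_map_apply)
open K83 (CoAlg IsHopfMod)
open Fin669 (Comm pw pw_succ)

section defs

variable {R : Type u} [CommRing R] {A : Type u} [CommRing A] [HopfAlgebra R A] {D : Type u} [CommRing D]
  [Algebra R D]

/-- Bundled Hopf modules. -/
structure HM (c : CoAlg R A D) : Type (u + 1) where
  V : Type u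
  [ag : AddCommGroup V]
  [mR : Module R V]
  [mD : Module D V]
  [st : IsScalarTower R D V]
  [co : HopfRep.Comod R A V]
  hm : IsHopfMod c V co

attribute [instance] HM.ag HM.mR HM.mD HM.st HM.co

/-- the product `(D ⊗ A) × (V ⊗ A) → V ⊗ A` -/
abbrev act2 (V : Type u) [AddCommGroup V] [Module R V] [Module D V] [IsScalarTower R D V] :
    D ⊗[R] A →ₗ[R] V ⊗[R] A →ₗ[R] V ⊗[R] A :=
  TensorProduct.map₂ (Algebra.lsmul R R V : D →ₐ[R] Module.End R V).toLinearMap (LinearMap.mul R A)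

theorem act2_tmul (V : Type u) [AddCommGroup V] [Module R V] [Module D V] [IsScalarTower R D V]
    (d : D) (a : A) (v : V) (b : A) : act2 V (d ⊗ₜ[R] a) (v ⊗ₜ[R] b) = (d • v) ⊗ₜ[R] (a * b) := by
  simp [act2]

theorem act2_mulRight (V : Type u) [AddCommGroup V] [Module R V] [Module D V] [IsScalarTower R D V]
    (g : A) (X : D ⊗[R] A) (Y : V ⊗[R] A) :
    (LinearMap.mulRight R g).lTensor V (act2 V X Y) = act2 V X ((LinearMap.mulRight R g).lTensor V Y) := by
  induction X using TensorProduct.induction_on with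
  | zero => simp
  | add x y hx hy => simp only [map_add, LinearMap.add_apply, hx, hy]
  | tmul d a =>
    induction Y using TensorProduct.induction_on with
    | zero => simp
    | add x y hx hy => simp only [map_add, hx, hy]
    | tmul v b => simp [mul_assoc]

/-- `(s ⊗ χ) Y = (s ⊗ 1) (Y χ)`. -/
theorem act2_tmul_eq (V : Type u) [AddCommGroup V] [Module R V] [Module D V] [IsScalarTower R D V]
    (s : D) (χ : A) (Y : V ⊗[R] A) :
    act2 V (s ⊗ₜ[R] χ) Y = (Algebra.lsmul R R V s).rTensor A ((LinearMap.mulRight R χ).lTensor V Y) := by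
  induction Y using TensorProduct.induction_on with
  | zero => simp
  | add x y hx hy => simp only [map_add, hx, hy]
  | tmul v b => simp [mul_comm]

theorem lTensor_mulRight_mulRight (V : Type u) [AddCommGroup V] [Module R V] (g h : A) (Y : V ⊗[R] A) :
    (LinearMap.mulRight R h).lTensor V ((LinearMap.mulRight R g).lTensor V Y) =
      (LinearMap.mulRight R (g * h)).lTensor V Y := by
  rw [← LinearMap.comp_apply, ← LinearMap.lTensor_comp]
  congr 2
  ext a
  simp [mul_assoc]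

theorem lTensor_mulRight_one (V : Type u) [AddCommGroup V] [Module R V] (Y : V ⊗[R] A) :
    (LinearMap.mulRight R (1 : A)).lTensor V Y = Y := by
  have : LinearMap.mulRight R (1 : A) = LinearMap.id := by ext; simp
  rw [this, LinearMap.lTensor_id, LinearMap.id_apply]

theorem lTensor_rTensor (V W : Type u) [AddCommGroup V] [Module R V] [AddCommGroup W] [Module R W]
    (f : V →ₗ[R] W) (g : A →ₗ[R] A) (Y : V ⊗[R] A) : g.lTensor W (f.rTensor A Y) = f.rTensor A (g.lTensor V Y) := by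
  rw [← LinearMap.comp_apply, ← LinearMap.comp_apply, LinearMap.lTensor_comp_rTensor,
    LinearMap.rTensor_comp_lTensor]

variable {c : CoAlg R A D} {χ : A} (hχ : IsGroupLikeElem R χ)

/-- The twist by `χ^(-n)`. -/
def HM.tw (N : HM c) (n : ℕ) : HM c where
  V := N.V
  ag := N.ag
  mR := N.mR
  mD := N.mD
  st := N.st
  co := ComodTens.Comod.twist N.co (HopfAlgebra.antipode R χ ^ n) (hχ.antipode.pow)
  hm := ⟨fun d v => by
    change (LinearMap.mulRight R _).lTensor N.V (N.co.coact (d • v)) = _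
    rw [N.hm.smul d v]
    exact act2_mulRight N.V _ _ _⟩

/-- Multiplication by `d`, from `N.tw n` to `N.tw m`. -/
def sm (N : HM c) (n m : ℕ) (d : D) : (N.tw hχ n).V →ₗ[R] (N.tw hχ m).V := Algebra.lsmul R R N.V d

theorem sm_comp (N : HM c) (n m l : ℕ) (d d' : D) :
    sm hχ N m l d' ∘ₗ sm hχ N n m d = sm hχ N n l (d' * d) := by
  apply LinearMap.ext
  intro v
  exact (mul_smul d' d (show N.V from v)).symm

include hχ in
theorem chi_mul (n k : ℕ) : χ ^ k * HopfAlgebra.antipode R χ ^ (n + k) = HopfAlgebra.antipode R χ ^ n := by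
  rw [pow_add, mul_comm (HopfAlgebra.antipode R χ ^ n), ← mul_assoc, ← mul_pow, hχ.mul_antipode_cancel, one_pow,
    one_mul]

theorem rho_pow {s : D} (hs : c.ρ s = s ⊗ₜ[R] χ) (k : ℕ) : c.ρ (s ^ k) = (s ^ k) ⊗ₜ[R] (χ ^ k) := by
  rw [map_pow, hs, Algebra.TensorProduct.tmul_pow]

/-- multiplication by a semi-invariant of weight `χ^k` is a comodule homomorphism `N.tw n → N.tw (n + k)`. -/
theorem sm_hom (N : HM c) {d : D} {k : ℕ} (hd : c.ρ d = d ⊗ₜ[R] (χ ^ k)) (n : ℕ) :
    Hoch.IsComodHom A (sm hχ N n (n + k) d) := by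
  apply LinearMap.ext
  intro v
  change (LinearMap.mulRight R _).lTensor N.V (N.co.coact (d • (show N.V from v))) =
    (Algebra.lsmul R R N.V d).rTensor A ((LinearMap.mulRight R _).lTensor N.V (N.co.coact v))
  rw [N.hm.smul, hd]
  refine (congrArg _ (act2_tmul_eq N.V d (χ ^ k) _)).trans ?_
  refine (lTensor_rTensor N.V N.V (Algebra.lsmul R R N.V d) _ _).trans ?_
  refine congrArg _ ?_
  refine (lTensor_mulRight_mulRight N.V _ _ _).trans ?_
  rw [chi_mul hχ n k]

/-- `H^j(N.tw n)`. -/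
abbrev Vf (N : HM c) (j n : ℕ) : Type u := Hoch.H R A (N.tw hχ n).V j

theorem sm_hom1 (N : HM c) {d : D} (hd : c.ρ d = d ⊗ₜ[R] χ) (n : ℕ) :
    Hoch.IsComodHom A (sm hχ N n (n + 1) d) := sm_hom hχ N (k := 1) (by rw [pow_one]; exact hd) n

variable {r : ℕ} {s : Fin r → D} (hs : ∀ i, c.ρ (s i) = s i ⊗ₜ[R] χ)

/-- The operators. -/
def x (N : HM c) (i : Fin r) (j n : ℕ) : Vf hχ N j n →ₗ[R] Vf hχ N j (n + 1) :=
  Hmap R A (sm_hom1 hχ N (hs i) n) j

theorem x_mk (N : HM c) (i : Fin r) (j n : ℕ) (z : Hoch.cocycles R A (N.tw hχ n).V j) :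
    x hχ hs N i j n (Hoch.H.mk R A (N.tw hχ n).V j z) =
      Hoch.H.mk R A (N.tw hχ (n + 1)).V j (Zmap R A (sm_hom1 hχ N (hs i) n) j z) := rfl

theorem comm (N : HM c) (j : ℕ) : Comm (V := fun n => Vf hχ N j n) (fun i => x hχ hs N i j) := by
  intro i i' n v
  obtain ⟨z, rfl⟩ := mk_surj R A j v
  change x hχ hs N i j (n + 1) (x hχ hs N i' j n _) = x hχ hs N i' j (n + 1) (x hχ hs N i j n _)
  rw [x_mk, x_mk, x_mk, x_mk]
  congr 1
  apply Subtype.ext
  rw [Zmap_coe, Zmap_coe, Zmap_coe, Zmap_coe, ← LinearMap.comp_apply, ← LinearMap.comp_apply, ← map_comp,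
    ← map_comp, sm_comp, sm_comp, mul_comm]

/-- The iterated operator on classes. -/
theorem pw_mk (N : HM c) (i : Fin r) (j n : ℕ) (z : Hoch.cocycles R A (N.tw hχ n).V j) (k : ℕ) :
    pw (V := fun n => Vf hχ N j n) (fun i => x hχ hs N i j) i n k (Hoch.H.mk R A (N.tw hχ n).V j z) =
      Hoch.H.mk R A (N.tw hχ (n + k)).V j (Zmap R A (sm_hom hχ N (rho_pow (hs i) k) n) j z) := by
  induction k with
  | zero =>
    change Hoch.H.mk R A (N.tw hχ n).V j z = _
    congr 1
    apply Subtype.ext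
    rw [Zmap_coe]
    have : sm hχ N n (n + 0) (s i ^ 0) = (LinearMap.id : (N.tw hχ n).V →ₗ[R] (N.tw hχ n).V) := by
      apply LinearMap.ext
      intro v
      change (s i ^ 0) • (show N.V from v) = v
      rw [pow_zero, one_smul]
    rw [this]
    exact (LinearMap.congr_fun (map_id R A j) _).symm
  | succ k ih =>
    rw [pw_succ, ih]
    change x hχ hs N i j (n + k) _ = _
    rw [x_mk]
    congr 1
    apply Subtype.ext
    rw [Zmap_coe, Zmap_coe, Zmap_coe, ← LinearMap.comp_apply, ← map_comp, sm_comp, ← pow_succ']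
    rfl

/-- A class is killed by a power of `x i` as soon as `s_i^k z` is a coboundary. -/
theorem pw_mk_eq_zero (N : HM c) (i : Fin r) (j n : ℕ) (z : Hoch.cocycles R A (N.tw hχ n).V j) (k : ℕ)
    (h : map R A (sm hχ N n (n + k) (s i ^ k)) j (z : (Hoch.cochain R A (N.tw hχ n).V j : Type u)) ∈
      Hoch.coboundaries R A (N.tw hχ (n + k)).V j) :
    pw (V := fun n => Vf hχ N j n) (fun i => x hχ hs N i j) i n k (Hoch.H.mk R A (N.tw hχ n).V j z) = 0 := by
  rw [pw_mk, mk_eq_zero_iff, Zmap_coe]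
  exact h

/-! ### Functoriality -/

/-- the map on twists -/
def twMap {N M : HM c} (f : N.V →ₗ[D] M.V) (n m : ℕ) : (N.tw hχ n).V →ₗ[R] (M.tw hχ m).V :=
  (f.restrictScalars R : N.V →ₗ[R] M.V)

theorem twMap_hom {N M : HM c} {f : N.V →ₗ[D] M.V} (hf : Hoch.IsComodHom A (f.restrictScalars R)) (n : ℕ) :
    Hoch.IsComodHom A (twMap hχ f n n) := by
  apply LinearMap.ext
  intro v
  have h0 : M.co.coact (f v) = (f.restrictScalars R).rTensor A (N.co.coact v) := LinearMap.congr_fun hf v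
  change (LinearMap.mulRight R _).lTensor M.V (M.co.coact (f v)) =
    (f.restrictScalars R).rTensor A ((LinearMap.mulRight R _).lTensor N.V (N.co.coact v))
  rw [h0]
  exact lTensor_rTensor N.V M.V (f.restrictScalars R) _ _

/-- The map `H^j(N.tw n) → H^j(M.tw n)`. -/
def Vmap {N M : HM c} {f : N.V →ₗ[D] M.V} (hf : Hoch.IsComodHom A (f.restrictScalars R)) (j n : ℕ) :
    Vf hχ N j n →ₗ[R] Vf hχ M j n := Hmap R A (twMap_hom hχ hf n) j

/-- Exact sequences of Hopf modules. -/
structure HSES {N' N N'' : HM c} (f : N'.V →ₗ[D] N.V) (g : N.V →ₗ[D] N''.V) : Prop where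
  hf : Hoch.IsComodHom A (f.restrictScalars R)
  hg : Hoch.IsComodHom A (g.restrictScalars R)
  inj : Function.Injective f
  surj : Function.Surjective g
  exact : Function.Exact f g

theorem HSES.ses {N' N N'' : HM c} {f : N'.V →ₗ[D] N.V} {g : N.V →ₗ[D] N''.V} (S : HSES f g) (n : ℕ) :
    SES R A (twMap hχ f n n) (twMap hχ g n n) where
  hf := twMap_hom hχ S.hf n
  hg := twMap_hom hχ S.hg n
  inj := S.inj
  surj := S.surj
  exact := S.exact

theorem HSES.exact_mid [Module.Flat R A] {N' N N'' : HM c} {f : N'.V →ₗ[D] N.V} {g : N.V →ₗ[D] N''.V}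
    (S : HSES f g) (j n : ℕ) : Function.Exact (Vmap hχ S.hf j n) (Vmap hχ S.hg j n) :=
  (S.ses hχ n).exact_left j

/-! ### The step `0 → N → N(1) → Q(1) → 0` -/

/-- `N -s-> N -g-> Q` exact, `s` injective, `g` surjective. -/
structure Coker {N Q : HM c} (d : D) (g : N.V →ₗ[D] Q.V) : Prop where
  hg : Hoch.IsComodHom A (g.restrictScalars R)
  inj : ∀ v : N.V, d • v = 0 → v = 0
  surj : Function.Surjective g
  exact : ∀ v : N.V, g v = 0 ↔ ∃ w : N.V, d • w = v

/-- the projection `N.tw (n + 1) → (Q.tw 1).tw n` -/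
def prQ {N Q : HM c} (g : N.V →ₗ[D] Q.V) (n : ℕ) : (N.tw hχ (n + 1)).V →ₗ[R] ((Q.tw hχ 1).tw hχ n).V :=
  (g.restrictScalars R : N.V →ₗ[R] Q.V)

theorem twMap_hom1 {N Q : HM c} {g : N.V →ₗ[D] Q.V} (hg : Hoch.IsComodHom A (g.restrictScalars R)) (n : ℕ) :
    Hoch.IsComodHom A (prQ hχ g n) := by
  apply LinearMap.ext
  intro v
  have h0 : Q.co.coact (g v) = (g.restrictScalars R).rTensor A (N.co.coact v) := LinearMap.congr_fun hg v
  change (LinearMap.mulRight R _).lTensor Q.V ((LinearMap.mulRight R _).lTensor Q.V (Q.co.coact (g v))) =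
    (g.restrictScalars R).rTensor A ((LinearMap.mulRight R _).lTensor N.V (N.co.coact v))
  rw [h0]
  refine (lTensor_mulRight_mulRight Q.V _ _ _).trans ?_
  rw [pow_one, ← pow_succ']
  exact lTensor_rTensor N.V Q.V (g.restrictScalars R) _ _

variable {N Q : HM c} {g : N.V →ₗ[D] Q.V}

include hs in
theorem Coker.ses {i : Fin r} (S : Coker (s i) g) (n : ℕ) :
    SES R A (sm hχ N n (n + 1) (s i)) (prQ hχ g n) where
  hf := sm_hom1 hχ N (hs i) n
  hg := twMap_hom1 hχ S.hg n
  inj := (injective_iff_map_eq_zero (sm hχ N n (n + 1) (s i))).mpr S.inj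
  surj := S.surj
  exact := fun v => S.exact v

variable [Module.Flat R A]

/-- `H^j(N.tw (n + 1)) → H^j((Q.tw 1).tw n)` -/
def Coker.a {i : Fin r} (S : Coker (s i) g) (j n : ℕ) : Vf hχ N j (n + 1) →ₗ[R] Vf hχ (Q.tw hχ 1) j n :=
  Hmap R A (twMap_hom1 hχ S.hg n) j

/-- `H^j((Q.tw 1).tw n) → H^(j+1)(N.tw n)` -/
def Coker.del {i : Fin r} (S : Coker (s i) g) (j n : ℕ) : Vf hχ (Q.tw hχ 1) j n →ₗ[R] Vf hχ N (j + 1) n :=
  (S.ses hχ hs n).del j

theorem Coker.ex1 {i : Fin r} (S : Coker (s i) g) (j n : ℕ) :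
    Function.Exact (x hχ hs N i j n) (S.a hχ j n) := (S.ses hχ hs n).exact_left j

theorem Coker.ex2 {i : Fin r} (S : Coker (s i) g) (j n : ℕ) :
    Function.Exact (S.a hχ j n) (S.del hχ hs j n) := (S.ses hχ hs n).exact_mid j

theorem Coker.ex3 {i : Fin r} (S : Coker (s i) g) (j n : ℕ) :
    Function.Exact (S.del hχ hs j n) (x hχ hs N i (j + 1) n) := (S.ses hχ hs n).exact_right j

theorem Coker.hdel {i : Fin r} (S : Coker (s i) g) (i' : Fin r) (j n : ℕ) (q : Vf hχ (Q.tw hχ 1) j n) :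
    S.del hχ hs j (n + 1) (x hχ hs (Q.tw hχ 1) i' j n q) = x hχ hs N i' (j + 1) n (S.del hχ hs j n q) := by
  have h := (S.ses hχ hs n).del_naturality (S.ses hχ hs (n + 1)) (a := sm hχ N n (n + 1) (s i'))
    (b := sm hχ N (n + 1) (n + 2) (s i')) (c := sm hχ (Q.tw hχ 1) n (n + 1) (s i'))
    (sm_hom1 hχ N (hs i') n) (sm_hom1 hχ N (hs i') (n + 1)) (sm_hom1 hχ (Q.tw hχ 1) (hs i') n)
    (by rw [sm_comp, sm_comp, mul_comm])
    (by
      apply LinearMap.ext
      intro v
      exact (map_smul g (s i') (show N.V from v)).symm) j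
  exact (LinearMap.congr_fun h q).symm

end defs

end Groth.Agent.ResProp.EF.K416
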