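import Groth.Agent.Hoch.K915.DSq
import Groth.Agent.HopfRep.K187.HochMap
import Mathlib.RingTheory.Flat.Basic
import Mathlib.LinearAlgebra.TensorProduct.RightExactness

/-!
# The long exact sequence of the cohomology of comodules (`S16912`, group G6a, helper416)

Everything over one ring `R`, one universe.  `Hoch.cochain R O X j`, `Hoch.d`, `Hoch.H R O X j` are those of the Prelude.

* `Hmap` : the map on `Hoch.H` induced by a comodule homomorphism; `Hmap_mk`, `Hmap_id`, `Hmap_comp`.
* `mk_surj`, `mk_eq_zero_iff`.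
* `del` : connecting map of `0 → X → Y → Z → 0` (`O` flat over `R`); `del_mk`, `exact_Hmap`, `exact_del_right`,
  `exact_del_left`, `Hmap_zero_injective`, `del_naturality`.
-/

set_option autoImplicit false
universe u

open TensorProduct

noncomputable section

namespace Groth.Agent.ResProp.EF.K416

open K187.HochMap (map map_comp map_id map_succ d_map d_map_apply)

section aux

variable {R : Type u} [CommRing R]

/-- factor `q` through the surjection `p` -/
def factor {P A B : Type u} [AddCommGroup P] [Module R P] [AddCommGroup A] [Module R A] [AddCommGroup B] [Module R B]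
    (p : P →ₗ[R] A) (q : P →ₗ[R] B) (hp : Function.Surjective p) (h : LinearMap.ker p ≤ LinearMap.ker q) :
    A →ₗ[R] B :=
  (LinearMap.ker p).liftQ q h ∘ₗ (p.quotKerEquivOfSurjective hp).symm.toLinearMap

theorem factor_apply {P A B : Type u} [AddCommGroup P] [Module R P] [AddCommGroup A] [Module R A] [AddCommGroup B]
    [Module R B] (p : P →ₗ[R] A) (q : P →ₗ[R] B) (hp : Function.Surjective p)
    (h : LinearMap.ker p ≤ LinearMap.ker q) (x : P) : factor p q hp h (p x) = q x := by
  have h4 : (p.quotKerEquivOfSurjective hp).symm (p x) = Submodule.Quotient.mk x := by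
    rw [LinearEquiv.symm_apply_eq]; rfl
  rw [factor, LinearMap.comp_apply, LinearEquiv.coe_coe, h4]
  rfl

end aux

variable (R O : Type u) [CommRing R] [Ring O] [Bialgebra R O]

section cls

variable {X : Type u} [AddCommGroup X] [Module R X] [HopfRep.Comod R O X]

theorem mk_surj (j : ℕ) : Function.Surjective (Hoch.H.mk R O X j) := Submodule.mkQ_surjective _

theorem mk_eq_zero_iff (j : ℕ) (z : Hoch.cocycles R O X j) :
    Hoch.H.mk R O X j z = 0 ↔ (z : (Hoch.cochain R O X j : Type u)) ∈ Hoch.coboundaries R O X j := by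
  rw [Hoch.H.mk, Submodule.mkQ_apply, Submodule.Quotient.mk_eq_zero, Submodule.mem_comap]
  rfl

theorem mk_eq_iff (j : ℕ) (z z' : Hoch.cocycles R O X j) :
    Hoch.H.mk R O X j z = Hoch.H.mk R O X j z' ↔
      ((z : (Hoch.cochain R O X j : Type u)) - z') ∈ Hoch.coboundaries R O X j := by
  rw [← sub_eq_zero, ← map_sub, mk_eq_zero_iff]
  rfl

theorem d_of_mem_coboundaries {j : ℕ} {b : (Hoch.cochain R O X j : Type u)} (hb : b ∈ Hoch.coboundaries R O X j) :
    Hoch.d R O X j b = 0 := K915.HochDSq.coboundaries_le_cocycles R O X j hb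

end cls

variable {X Y Z : Type u} [AddCommGroup X] [Module R X] [AddCommGroup Y] [Module R Y] [AddCommGroup Z] [Module R Z]

section cochains

variable {f : X →ₗ[R] Y} {g : Y →ₗ[R] Z}

theorem map_surjective (hg : Function.Surjective g) (n : ℕ) : Function.Surjective (map R O g n) := by
  induction n with
  | zero => exact hg
  | succ n ih => exact LinearMap.rTensor_surjective O ih

theorem map_exact (hg : Function.Surjective g) (hfg : Function.Exact f g) (n : ℕ) :
    Function.Exact (map R O f n) (map R O g n) := by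
  induction n with
  | zero => exact hfg
  | succ n ih => exact rTensor_exact O ih (map_surjective R O hg n)

theorem map_injective [Module.Flat R O] (hf : Function.Injective f) (n : ℕ) :
    Function.Injective (map R O f n) := by
  induction n with
  | zero => exact hf
  | succ n ih => exact Module.Flat.rTensor_preserves_injective_linearMap _ ih

end cochains

variable [HopfRep.Comod R O X] [HopfRep.Comod R O Y] [HopfRep.Comod R O Z]

section Hmap

variable {f : X →ₗ[R] Y}

theorem map_mem_cocycles (hf : Hoch.IsComodHom O f) (j : ℕ) {x : (Hoch.cochain R O X j : Type u)}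
    (hx : x ∈ Hoch.cocycles R O X j) : map R O f j x ∈ Hoch.cocycles R O Y j := by
  have hx' : Hoch.d R O X j x = 0 := hx
  change Hoch.d R O Y j (map R O f j x) = 0
  rw [d_map_apply R O hf j x, hx', map_zero]

theorem map_mem_coboundaries (hf : Hoch.IsComodHom O f) (j : ℕ) {x : (Hoch.cochain R O X j : Type u)}
    (hx : x ∈ Hoch.coboundaries R O X j) : map R O f j x ∈ Hoch.coboundaries R O Y j := by
  cases j with
  | zero =>
    have hx' : x = 0 := hx
    rw [hx', map_zero]
    exact Submodule.zero_mem _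
  | succ j =>
    obtain ⟨y, rfl⟩ := hx
    exact ⟨map R O f j y, d_map_apply R O hf j y⟩

/-- the map on cocycles -/
def Zmap (hf : Hoch.IsComodHom O f) (j : ℕ) : Hoch.cocycles R O X j →ₗ[R] Hoch.cocycles R O Y j :=
  (map R O f j).restrict fun _ hx => map_mem_cocycles R O hf j hx

@[simp] theorem Zmap_coe (hf : Hoch.IsComodHom O f) (j : ℕ) (z : Hoch.cocycles R O X j) :
    (Zmap R O hf j z : (Hoch.cochain R O Y j : Type u)) = map R O f j z := rfl

/-- the map on cohomology -/
def Hmap (hf : Hoch.IsComodHom O f) (j : ℕ) : Hoch.H R O X j →ₗ[R] Hoch.H R O Y j :=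
  Submodule.mapQ _ _ (Zmap R O hf j) fun _ hx => map_mem_coboundaries R O hf j hx

@[simp] theorem Hmap_mk (hf : Hoch.IsComodHom O f) (j : ℕ) (z : Hoch.cocycles R O X j) :
    Hmap R O hf j (Hoch.H.mk R O X j z) = Hoch.H.mk R O Y j (Zmap R O hf j z) := rfl

theorem Hmap_congr {f' : X →ₗ[R] Y} (e : f = f') (hf : Hoch.IsComodHom O f) (hf' : Hoch.IsComodHom O f') (j : ℕ) :
    Hmap R O hf j = Hmap R O hf' j := by
  subst e; rfl

theorem Hmap_comp {g : Y →ₗ[R] Z} (hf : Hoch.IsComodHom O f) (hg : Hoch.IsComodHom O g)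
    (hgf : Hoch.IsComodHom O (g ∘ₗ f)) (j : ℕ) : Hmap R O hgf j = Hmap R O hg j ∘ₗ Hmap R O hf j := by
  apply LinearMap.ext
  intro x
  obtain ⟨z, rfl⟩ := mk_surj R O j x
  rw [LinearMap.comp_apply, Hmap_mk, Hmap_mk, Hmap_mk]
  congr 1
  apply Subtype.ext
  rw [Zmap_coe, Zmap_coe, Zmap_coe, map_comp]
  rfl

end Hmap

/-- composition of comodule homomorphisms -/
theorem isComodHom_comp {f : X →ₗ[R] Y} {g : Y →ₗ[R] Z} (hf : Hoch.IsComodHom O f) (hg : Hoch.IsComodHom O g) :
    Hoch.IsComodHom O (g ∘ₗ f) := by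
  unfold Hoch.IsComodHom at *
  rw [← LinearMap.comp_assoc, hg, LinearMap.comp_assoc, hf, LinearMap.rTensor_comp, LinearMap.comp_assoc]

section del

variable [Module.Flat R O]
variable {f : X →ₗ[R] Y} {g : Y →ₗ[R] Z}

/-- cochains `y` with `g y` a cocycle -/
def P (g : Y →ₗ[R] Z) (j : ℕ) : Submodule R (Hoch.cochain R O Y j : Type u) :=
  (Hoch.cocycles R O Z j).comap (map R O g j)

variable (hf : Hoch.IsComodHom O f) (hg : Hoch.IsComodHom O g) (hfi : Function.Injective f)
  (hgs : Function.Surjective g) (hfg : Function.Exact f g)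

/-- the structure of a short exact sequence of comodules -/
structure SES (f : X →ₗ[R] Y) (g : Y →ₗ[R] Z) : Prop where
  hf : Hoch.IsComodHom O f
  hg : Hoch.IsComodHom O g
  inj : Function.Injective f
  surj : Function.Surjective g
  exact : Function.Exact f g

variable {R O}

theorem SES.exists_pre (S : SES R O f g) (j : ℕ) (y : (Hoch.cochain R O Y j : Type u)) (hy : y ∈ P R O g j) :
    ∃ x : Hoch.cocycles R O X (j + 1), map R O f (j + 1) x = Hoch.d R O Y j y := by
  have h0 : Hoch.d R O Z j (map R O g j y) = 0 := hy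
  have h1 : map R O g (j + 1) (Hoch.d R O Y j y) = 0 := by
    rw [← d_map_apply R O S.hg j y, h0]
  obtain ⟨x, hx⟩ := (map_exact R O S.surj S.exact (j + 1) _).mp h1
  refine ⟨⟨x, ?_⟩, hx⟩
  change Hoch.d R O X (j + 1) x = 0
  apply map_injective R O S.inj (j + 2)
  have h2 := d_map_apply R O S.hf (j + 1) x
  rw [map_zero]
  refine h2.symm.trans ?_
  rw [hx]
  exact K915.HochDSq.dd_apply R O Y j y

/-- `y ↦ f⁻¹ (d y)` -/
def SES.pre (S : SES R O f g) (j : ℕ) : P R O g j →ₗ[R] Hoch.cocycles R O X (j + 1) where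
  toFun y := (S.exists_pre j y y.2).choose
  map_add' y y' := by
    apply Subtype.ext
    apply map_injective R O S.inj (j + 1)
    have h1 := (S.exists_pre j y y.2).choose_spec
    have h2 := (S.exists_pre j y' y'.2).choose_spec
    have h3 := (S.exists_pre j (y + y' : P R O g j) (y + y').2).choose_spec
    refine h3.trans ?_
    refine Eq.trans ?_ (map_add (map R O f (j + 1)) _ _).symm
    rw [h1, h2, ← map_add]
    rfl
  map_smul' c y := by
    apply Subtype.ext
    apply map_injective R O S.inj (j + 1)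
    have h1 := (S.exists_pre j y y.2).choose_spec
    have h3 := (S.exists_pre j (c • y : P R O g j) (c • y).2).choose_spec
    refine h3.trans ?_
    refine Eq.trans ?_ (map_smul (map R O f (j + 1)) c _).symm
    rw [h1, ← map_smul]
    rfl

theorem SES.map_pre (S : SES R O f g) (j : ℕ) (y : P R O g j) :
    map R O f (j + 1) (S.pre j y) = Hoch.d R O Y j y := (S.exists_pre j y y.2).choose_spec

/-- `y ↦ g y` -/
def SES.prj (_S : SES R O f g) (j : ℕ) : P R O g j →ₗ[R] Hoch.cocycles R O Z j :=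
  (map R O g j).restrict fun _ h => h

omit [Module.Flat R O] in
theorem SES.prj_surj (S : SES R O f g) (j : ℕ) : Function.Surjective (S.prj j) := by
  rintro ⟨z, hz⟩
  obtain ⟨y, rfl⟩ := map_surjective R O S.surj j z
  exact ⟨⟨y, hz⟩, rfl⟩

omit [Module.Flat R O] in
theorem SES.decomp (S : SES R O f g) (j : ℕ) (y : (Hoch.cochain R O Y j : Type u))
    (hy : map R O g j y ∈ Hoch.coboundaries R O Z j) :
    ∃ b ∈ Hoch.coboundaries R O Y j, ∃ x : (Hoch.cochain R O X j : Type u), y = b + map R O f j x := by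
  cases j with
  | zero =>
    have hy' : map R O g 0 y = 0 := hy
    obtain ⟨x, rfl⟩ := (map_exact R O S.surj S.exact 0 _).mp hy'
    exact ⟨0, Submodule.zero_mem _, x, (zero_add _).symm⟩
  | succ j =>
    obtain ⟨z', hz'⟩ := hy
    obtain ⟨y', rfl⟩ := map_surjective R O S.surj j z'
    rw [d_map_apply R O S.hg j y'] at hz'
    have h1 : map R O g (j + 1) (y - Hoch.d R O Y j y') = 0 := by rw [map_sub, hz', sub_self]
    obtain ⟨x, hx⟩ := (map_exact R O S.surj S.exact (j + 1) _).mp h1
    refine ⟨Hoch.d R O Y j y', ⟨y', rfl⟩, x, ?_⟩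
    rw [hx]
    abel

theorem SES.ker_le (S : SES R O f g) (j : ℕ) :
    LinearMap.ker (Hoch.H.mk R O Z j ∘ₗ S.prj j) ≤ LinearMap.ker (Hoch.H.mk R O X (j + 1) ∘ₗ S.pre j) := by
  intro y hy
  rw [LinearMap.mem_ker, LinearMap.comp_apply, mk_eq_zero_iff] at hy ⊢
  obtain ⟨b, hb, x, hx⟩ := S.decomp j y hy
  refine ⟨x, ?_⟩
  apply map_injective R O S.inj (j + 1)
  rw [← d_map_apply R O S.hf j x, S.map_pre, hx, map_add, d_of_mem_coboundaries R O hb, zero_add]

/-- the connecting map -/
def SES.del (S : SES R O f g) (j : ℕ) : Hoch.H R O Z j →ₗ[R] Hoch.H R O X (j + 1) :=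
  factor (Hoch.H.mk R O Z j ∘ₗ S.prj j) (Hoch.H.mk R O X (j + 1) ∘ₗ S.pre j)
    ((mk_surj R O j).comp (S.prj_surj j)) (S.ker_le j)

theorem SES.del_mk_prj (S : SES R O f g) (j : ℕ) (y : P R O g j) :
    S.del j (Hoch.H.mk R O Z j (S.prj j y)) = Hoch.H.mk R O X (j + 1) (S.pre j y) :=
  factor_apply (Hoch.H.mk R O Z j ∘ₗ S.prj j) (Hoch.H.mk R O X (j + 1) ∘ₗ S.pre j) _ _ y

/-- `del [g y] = [x]` if `f x = d y`. -/
theorem SES.del_mk (S : SES R O f g) (j : ℕ) (z : Hoch.cocycles R O Z j) (x : Hoch.cocycles R O X (j + 1))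
    (y : (Hoch.cochain R O Y j : Type u)) (hz : map R O g j y = z) (hx : map R O f (j + 1) x = Hoch.d R O Y j y) :
    S.del j (Hoch.H.mk R O Z j z) = Hoch.H.mk R O X (j + 1) x := by
  have hy : y ∈ P R O g j := by
    change map R O g j y ∈ Hoch.cocycles R O Z j
    rw [hz]; exact z.2
  have e1 : z = S.prj j ⟨y, hy⟩ := Subtype.ext hz.symm
  have e2 : x = S.pre j ⟨y, hy⟩ := by
    apply Subtype.ext
    apply map_injective R O S.inj (j + 1)
    rw [hx, S.map_pre]
  rw [e1, e2, S.del_mk_prj]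

theorem SES.exact_left (S : SES R O f g) (j : ℕ) : Function.Exact (Hmap R O S.hf j) (Hmap R O S.hg j) := by
  intro y
  constructor
  · intro hy
    obtain ⟨y, rfl⟩ := mk_surj R O j y
    rw [Hmap_mk, mk_eq_zero_iff, Zmap_coe] at hy
    obtain ⟨b, hb, x, hx⟩ := S.decomp j y hy
    have hdy : Hoch.d R O Y j y = 0 := y.2
    rw [hx, map_add, d_of_mem_coboundaries R O hb, zero_add, d_map_apply R O S.hf j x] at hdy
    have hdx : Hoch.d R O X j x = 0 := map_injective R O S.inj (j + 1) (hdy.trans (map_zero _).symm)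
    refine ⟨Hoch.H.mk R O X j ⟨x, hdx⟩, ?_⟩
    rw [Hmap_mk, mk_eq_iff, Zmap_coe, hx]
    have : map R O f j x - (b + map R O f j x) = -b := by abel
    rw [this]
    exact Submodule.neg_mem _ hb
  · rintro ⟨x, rfl⟩
    obtain ⟨x, rfl⟩ := mk_surj R O j x
    rw [Hmap_mk, Hmap_mk]
    have : Zmap R O S.hg j (Zmap R O S.hf j x) = 0 := by
      apply Subtype.ext
      rw [Zmap_coe, Zmap_coe]
      exact (map_exact R O S.surj S.exact j _).mpr ⟨_, rfl⟩
    rw [this, map_zero]

theorem SES.exact_mid (S : SES R O f g) (j : ℕ) : Function.Exact (Hmap R O S.hg j) (S.del j) := by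
  intro z
  constructor
  · intro hz
    obtain ⟨z, rfl⟩ := mk_surj R O j z
    obtain ⟨y, rfl⟩ := S.prj_surj j z
    rw [S.del_mk_prj, mk_eq_zero_iff] at hz
    obtain ⟨x, hx⟩ := hz
    have h1 := S.map_pre j y
    rw [← hx, ← d_map_apply R O S.hf j x] at h1
    have hc : Hoch.d R O Y j ((y : (Hoch.cochain R O Y j : Type u)) - map R O f j x) = 0 := by
      rw [map_sub, h1, sub_self]
    refine ⟨Hoch.H.mk R O Y j ⟨_, hc⟩, ?_⟩
    rw [Hmap_mk]
    congr 1
    apply Subtype.ext
    rw [Zmap_coe]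
    have h2 : map R O g j (map R O f j x) = 0 := (map_exact R O S.surj S.exact j _).mpr ⟨_, rfl⟩
    change map R O g j (_ - _) = map R O g j y
    rw [map_sub, h2, sub_zero]
  · rintro ⟨y, rfl⟩
    obtain ⟨y, rfl⟩ := mk_surj R O j y
    rw [Hmap_mk]
    have hdy : Hoch.d R O Y j y = 0 := y.2
    rw [S.del_mk j (Zmap R O S.hg j y) 0 y rfl (by rw [hdy]; exact map_zero _), map_zero]

theorem SES.exact_right (S : SES R O f g) (j : ℕ) : Function.Exact (S.del j) (Hmap R O S.hf (j + 1)) := by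
  intro x
  constructor
  · intro hx
    obtain ⟨x, rfl⟩ := mk_surj R O (j + 1) x
    rw [Hmap_mk, mk_eq_zero_iff] at hx
    obtain ⟨y, hy⟩ := hx
    rw [Zmap_coe] at hy
    have hz : Hoch.d R O Z j (map R O g j y) = 0 := by
      rw [d_map_apply R O S.hg j y, hy]
      exact (map_exact R O S.surj S.exact (j + 1) _).mpr ⟨_, rfl⟩
    exact ⟨Hoch.H.mk R O Z j ⟨_, hz⟩, S.del_mk j ⟨_, hz⟩ x y rfl hy.symm⟩
  · rintro ⟨z, rfl⟩
    obtain ⟨z, rfl⟩ := mk_surj R O j z
    obtain ⟨y, rfl⟩ := S.prj_surj j z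
    rw [S.del_mk_prj, Hmap_mk, mk_eq_zero_iff, Zmap_coe, S.map_pre]
    exact ⟨_, rfl⟩

omit [Module.Flat R O] in
theorem SES.injective_zero (S : SES R O f g) : Function.Injective (Hmap R O S.hf 0) := by
  rw [injective_iff_map_eq_zero]
  intro x hx
  obtain ⟨x, rfl⟩ := mk_surj R O 0 x
  rw [Hmap_mk, mk_eq_zero_iff] at hx
  have hx' : map R O f 0 (x : (Hoch.cochain R O X 0 : Type u)) = 0 := hx
  have : x = 0 := Subtype.ext (S.inj (hx'.trans (map_zero f).symm))
  rw [this, map_zero]

end del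

section naturality

variable [Module.Flat R O]
variable {R O}
variable {f : X →ₗ[R] Y} {g : Y →ₗ[R] Z}
variable {X' Y' Z' : Type u} [AddCommGroup X'] [Module R X'] [AddCommGroup Y'] [Module R Y'] [AddCommGroup Z']
  [Module R Z'] [HopfRep.Comod R O X'] [HopfRep.Comod R O Y'] [HopfRep.Comod R O Z']
variable {f' : X' →ₗ[R] Y'} {g' : Y' →ₗ[R] Z'}

theorem SES.del_naturality (S : SES R O f g) (S' : SES R O f' g') {a : X →ₗ[R] X'} {b : Y →ₗ[R] Y'}
    {c : Z →ₗ[R] Z'} (ha : Hoch.IsComodHom O a) (hb : Hoch.IsComodHom O b) (hc : Hoch.IsComodHom O c)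
    (h1 : b ∘ₗ f = f' ∘ₗ a) (h2 : c ∘ₗ g = g' ∘ₗ b) (j : ℕ) :
    Hmap R O ha (j + 1) ∘ₗ S.del j = S'.del j ∘ₗ Hmap R O hc j := by
  apply LinearMap.ext
  intro z
  obtain ⟨z, rfl⟩ := mk_surj R O j z
  obtain ⟨y, rfl⟩ := S.prj_surj j z
  rw [LinearMap.comp_apply, LinearMap.comp_apply, S.del_mk_prj, Hmap_mk, Hmap_mk]
  symm
  refine S'.del_mk j _ _ (map R O b j y) ?_ ?_
  · change _ = map R O c j (map R O g j y)
    have e := congrArg (fun t => map R O t j) h2
    rw [map_comp, map_comp] at e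
    exact (LinearMap.congr_fun e (y : (Hoch.cochain R O Y j : Type u))).symm
  · rw [Zmap_coe, d_map_apply R O hb j, ← S.map_pre]
    have e := congrArg (fun t => map R O t (j + 1)) h1
    rw [map_comp, map_comp] at e
    exact (LinearMap.congr_fun e (S.pre j y : (Hoch.cochain R O X (j + 1) : Type u))).symm

end naturality

end Groth.Agent.ResProp.EF.K416
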