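import Groth.Agent.ResProp.EF.K416.Tw
import Groth.Agent.ResProp.EF.Fin669.Adapt
import Groth.Agent.ResProp.EF.Fin669.Adapt2

/-!
# Degree zero: `H^0(N.tw n) = {v | ρ v = v ⊗ χ^n}` (`S16912`, G6a, T5)
-/

set_option autoImplicit false
universe u

open TensorProduct

noncomputable section

namespace Groth.Agent.ResProp.EF.K416

open K83 (CoAlg IsHopfMod)
open Fin669 (Comm pw pw_succ NoTors FinGen sx)

variable {R : Type u} [CommRing R] {A : Type u} [CommRing A] [HopfAlgebra R A] {D : Type u} [CommRing D]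
  [Algebra R D] {c : CoAlg R A D} {χ : A} (hχ : IsGroupLikeElem R χ)
  {r : ℕ} {s : Fin r → D} (hs : ∀ i, c.ρ (s i) = s i ⊗ₜ[R] χ)

include hχ in
theorem anti_mul_chi (n : ℕ) : HopfAlgebra.antipode R χ ^ n * χ ^ n = 1 := by
  rw [← mul_pow, hχ.antipode_mul_cancel, one_pow]

/-- Semi-invariants of weight `χ^n`. -/
def W0 (χ : A) (N : HM c) (n : ℕ) : Submodule R N.V := HopfRep.eigenspace R A N.V (χ ^ n)

theorem mem_W0 (N : HM c) (n : ℕ) (v : N.V) :
    v ∈ W0 χ N n ↔ HopfRep.Comod.coact (k := R) (A := A) v = v ⊗ₜ[R] (χ ^ n) := Iff.rfl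

include hχ in
theorem mem_cocycles_zero_iff (N : HM c) (n : ℕ) (v : N.V) :
    Hoch.d R A (N.tw hχ n).V 0 (show (N.tw hχ n).V from v) = 0 ↔ v ∈ W0 χ N n := by
  rw [mem_W0, Hoch.d_zero_apply, sub_eq_zero]
  change (LinearMap.mulRight R (HopfAlgebra.antipode R χ ^ n)).lTensor N.V
    (HopfRep.Comod.coact (k := R) (A := A) v) = (v : N.V) ⊗ₜ[R] (1 : A) ↔ _
  constructor
  · intro h
    have h1 := congrArg ((LinearMap.mulRight R (χ ^ n)).lTensor N.V) h
    rw [lTensor_mulRight_mulRight, anti_mul_chi hχ, lTensor_mulRight_one] at h1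
    rw [h1, LinearMap.lTensor_tmul, LinearMap.mulRight_apply, one_mul]
  · intro h
    rw [h, LinearMap.lTensor_tmul, LinearMap.mulRight_apply, mul_comm, anti_mul_chi hχ]

include hs in
theorem smul_mem_W0 (N : HM c) (i : Fin r) (n : ℕ) (y : N.V) (hy : y ∈ W0 χ N n) : s i • y ∈ W0 χ N (n + 1) := by
  rw [mem_W0] at hy ⊢
  have h1 : HopfRep.Comod.coact (k := R) (A := A) (s i • y) = act2 N.V (c.ρ (s i))
      (HopfRep.Comod.coact (k := R) (A := A) y) := N.hm.smul (s i) y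
  rw [h1, hs i, hy, act2_tmul, pow_succ']

/-- `W n → H^0(N.tw n)` -/
def e0 (N : HM c) (n : ℕ) : W0 χ N n →ₗ[R] Vf hχ N 0 n :=
  (Hoch.H.mk R A (N.tw hχ n).V 0) ∘ₗ
    { toFun := fun y => ⟨(show (N.tw hχ n).V from (y : N.V)), (mem_cocycles_zero_iff hχ N n y).mpr y.2⟩
      map_add' := fun _ _ => rfl
      map_smul' := fun _ _ => rfl }

theorem e0_bijective (N : HM c) (n : ℕ) : Function.Bijective (e0 hχ N n) := by
  constructor
  · rw [injective_iff_map_eq_zero]
    intro y hy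
    have h1 := (mk_eq_zero_iff R A (X := (N.tw hχ n).V) 0 ⟨(show (N.tw hχ n).V from (y : N.V)),
      (mem_cocycles_zero_iff hχ N n y).mpr y.2⟩).mp hy
    exact Subtype.ext h1
  · intro v
    obtain ⟨z, rfl⟩ := mk_surj R A 0 v
    exact ⟨⟨(z : (Hoch.cochain R A (N.tw hχ n).V 0 : Type u)),
      (mem_cocycles_zero_iff hχ N n (z : (Hoch.cochain R A (N.tw hχ n).V 0 : Type u))).mp z.2⟩, rfl⟩

theorem e0_sx (N : HM c) (i : Fin r) (n : ℕ) (y : W0 χ N n) :
    e0 hχ N (n + 1) (sx s (W0 χ N) (smul_mem_W0 hs N) i n y) = x hχ hs N i 0 n (e0 hχ N n y) := rfl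

/-- No element of `H^0` is killed by powers of all `x i`. -/
theorem noTors (N : HM c) (hspan : Ideal.span (Set.range s) = ⊤) :
    NoTors (V := fun n => Vf hχ N 0 n) (fun i => x hχ hs N i 0) := by
  refine Fin669.noTors_of_injective (x' := sx s (W0 χ N) (smul_mem_W0 hs N))
    (fun n => (LinearEquiv.ofBijective (e0 hχ N n) (e0_bijective hχ N n)).symm.toLinearMap) ?_
    (fun n => (LinearEquiv.ofBijective (e0 hχ N n) (e0_bijective hχ N n)).symm.injective)
    (Fin669.noTors_sx s (W0 χ N) (smul_mem_W0 hs N) hspan)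
  intro i n v
  obtain ⟨y, rfl⟩ := (e0_bijective hχ N n).2 v
  have h1 := e0_sx hχ hs N i n y
  rw [← h1]
  change (LinearEquiv.ofBijective (e0 hχ N (n + 1)) (e0_bijective hχ N (n + 1))).symm _ =
    sx s (W0 χ N) (smul_mem_W0 hs N) i n ((LinearEquiv.ofBijective (e0 hχ N n) (e0_bijective hχ N n)).symm _)
  rw [LinearEquiv.ofBijective_symm_apply_apply, LinearEquiv.ofBijective_symm_apply_apply]

/-- Finite generation of `H^0` from finite generation of the semi-invariants. -/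
theorem finGen (N : HM c) (h : FinGen (sx s (W0 χ N) (smul_mem_W0 hs N))) :
    FinGen (V := fun n => Vf hχ N 0 n) (fun i => x hχ hs N i 0) :=
  Fin669.finGen_of_surjective (x' := fun i => x hχ hs N i 0) (e0 hχ N) (e0_sx hχ hs N)
    (fun n => (e0_bijective hχ N n).2) h

end Groth.Agent.ResProp.EF.K416
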