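import Groth.Agent.ResProp.EF.K416.Cobar
import Groth.Agent.ResProp.EF.K601.PD

/-!
# Dimension shifting along a complex of acyclic comodules (`S16912`, G6b, for helper350's `StmtFinStep`)
-/

set_option autoImplicit false
universe u

open TensorProduct

noncomputable section

namespace Groth.Agent.ResProp.EF.K416

open K601.PD (Bd)

section lin

variable {R : Type u} [CommRing R]

theorem exists_fg_top {M Y : Type u} [AddCommGroup M] [Module R M] [AddCommGroup Y] [Module R Y] [IsNoetherianRing R]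
    [Module.Finite R Y] (f : M →ₗ[R] Y) : ∃ S : Submodule R M, S.FG ∧ ∀ m : M, ∃ s ∈ S, f (m - s) = 0 := by
  obtain ⟨S, h1, -, h2⟩ := K601.PD.exists_fg_lift f ⊥ ⊤ (Module.Finite.fg_top) ⊤ (le_sup_of_le_left le_top)
  refine ⟨S, h1, fun m => ?_⟩
  have h3 : m ∈ S ⊔ (⊤ ⊓ (⊥ : Submodule R Y).comap f) := h2 trivial
  obtain ⟨s, hs, t, ht, rfl⟩ := Submodule.mem_sup.mp h3
  refine ⟨s, hs, ?_⟩
  rw [add_sub_cancel_left]
  exact ht.2

theorem finite_mid {X Y Z : Type u} [AddCommGroup X] [Module R X] [AddCommGroup Y] [Module R Y] [AddCommGroup Z]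
    [Module R Z] [IsNoetherianRing R] (hX : Module.Finite R X) (hZ : Module.Finite R Z) (f : X →ₗ[R] Y)
    (g : Y →ₗ[R] Z) (h : Function.Exact f g) : Module.Finite R Y := by
  have i1 : IsNoetherian R X := isNoetherian_of_isNoetherianRing_of_finite R X
  have i2 : IsNoetherian R Z := isNoetherian_of_isNoetherianRing_of_finite R Z
  have i3 : IsNoetherian R Y := isNoetherian_of_range_eq_ker f g ((LinearMap.exact_iff.1 h).symm)
  exact Module.IsNoetherian.finite R Y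

theorem subsingleton_mid {X Y Z : Type u} [AddCommGroup X] [Module R X] [AddCommGroup Y] [Module R Y]
    [AddCommGroup Z] [Module R Z] (hX : Subsingleton X) (hZ : Subsingleton Z) (f : X →ₗ[R] Y)
    (g : Y →ₗ[R] Z) (h : Function.Exact f g) : Subsingleton Y := by
  refine ⟨fun a b => ?_⟩
  have key : ∀ y : Y, y = 0 := fun y => by
    obtain ⟨x, rfl⟩ := (h y).mp (Subsingleton.elim _ _)
    rw [Subsingleton.elim x 0, map_zero]
  rw [key a, key b]

end lin

variable {R B : Type u} [CommRing R] [Ring B] [Bialgebra R B]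

theorem subsingleton_H {X : Type u} [AddCommGroup X] [Module R X] [HopfRep.Comod R B X] [Subsingleton X] (m : ℕ) :
    Subsingleton (Hoch.H R B X m) := by
  have h1 : ∀ m : ℕ, Subsingleton (Hoch.cochain R B X m : Type u) := by
    intro m
    induction m with
    | zero => exact ‹Subsingleton X›
    | succ m ih =>
      refine ⟨fun a b => ?_⟩
      have key : ∀ y : (Hoch.cochain R B X m : Type u) ⊗[R] B, y = 0 := fun y => by
        induction y using TensorProduct.induction_on with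
        | zero => rfl
        | tmul x a => rw [Subsingleton.elim x 0, TensorProduct.zero_tmul]
        | add x y hx hy => rw [hx, hy, add_zero]
      exact (key a).trans (key b).symm
  have h2 := h1 m
  refine ⟨fun a b => ?_⟩
  obtain ⟨z, rfl⟩ := mk_surj R B m a
  obtain ⟨z', rfl⟩ := mk_surj R B m b
  congr 1
  exact Subtype.ext (Subsingleton.elim _ _)

variable [Module.Flat R B]
variable {K Z C H : ℕ → Type u} [∀ n, AddCommGroup (K n)] [∀ n, Module R (K n)] [∀ n, HopfRep.Comod R B (K n)]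
  [∀ n, AddCommGroup (Z n)] [∀ n, Module R (Z n)] [∀ n, HopfRep.Comod R B (Z n)]
  [∀ n, AddCommGroup (C n)] [∀ n, Module R (C n)] [∀ n, HopfRep.Comod R B (C n)]
  [∀ n, AddCommGroup (H n)] [∀ n, Module R (H n)] [∀ n, HopfRep.Comod R B (H n)]
  {i : ∀ n, Z n →ₗ[R] K n} {p : ∀ n, K n →ₗ[R] C (n + 1)} {j : ∀ n, C n →ₗ[R] Z n} {q : ∀ n, Z n →ₗ[R] H n}

/-- `(c1)`, finiteness -/
theorem dimShift_finite [IsNoetherianRing R] (S1 : ∀ n, SES R B (i n) (p n)) (S2 : ∀ n, SES R B (j n) (q n))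
    (hC : Subsingleton (C 0)) (hK : ∀ n m, 0 < m → Subsingleton (Hoch.H R B (K n) m))
    (hH : ∀ n m, Module.Finite R (Hoch.H R B (H n) m)) :
    ∀ n m, Module.Finite R (Hoch.H R B (Z n) (m + 1)) := by
  intro n
  induction n with
  | zero =>
    intro m
    have h1 : Subsingleton (Hoch.H R B (C 0) (m + 1)) := subsingleton_H (m + 1)
    exact finite_mid inferInstance (hH 0 (m + 1)) _ _ ((S2 0).exact_left (m + 1))
  | succ n ih =>
    intro m
    have h2 := ih (m + 1)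
    have h3 := hK n (m + 1) (Nat.succ_pos m)
    have h1 : Module.Finite R (Hoch.H R B (C (n + 1)) (m + 1)) :=
      finite_mid (inferInstance : Module.Finite R (Hoch.H R B (K n) (m + 1))) h2 _ _ ((S1 n).exact_mid (m + 1))
    exact finite_mid h1 (hH (n + 1) (m + 1)) _ _ ((S2 (n + 1)).exact_left (m + 1))

/-- `(c1)`, vanishing -/
theorem dimShift_zero (S1 : ∀ n, SES R B (i n) (p n)) (S2 : ∀ n, SES R B (j n) (q n))
    (hC : Subsingleton (C 0)) (hK : ∀ n m, 0 < m → Subsingleton (Hoch.H R B (K n) m)) {r₀ r : ℕ}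
    (hH0 : ∀ n m, r₀ < m → Subsingleton (Hoch.H R B (H n) m)) (hHr : ∀ n, r < n → Subsingleton (H n)) :
    ∀ n m, r₀ + r < n + m + 1 → Subsingleton (Hoch.H R B (Z n) (m + 1)) := by
  intro n
  induction n with
  | zero =>
    intro m hm
    have h1 : Subsingleton (Hoch.H R B (C 0) (m + 1)) := subsingleton_H (m + 1)
    exact subsingleton_mid h1 (hH0 0 (m + 1) (by omega)) _ _ ((S2 0).exact_left (m + 1))
  | succ n ih =>
    intro m hm
    have h2 := ih (m + 1) (by omega)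
    have h3 := hK n (m + 1) (Nat.succ_pos m)
    have h1 : Subsingleton (Hoch.H R B (C (n + 1)) (m + 1)) :=
      subsingleton_mid h3 h2 _ _ ((S1 n).exact_mid (m + 1))
    have h4 : Subsingleton (Hoch.H R B (H (n + 1)) (m + 1)) := by
      by_cases h : r < n + 1
      · have := hHr (n + 1) h
        exact subsingleton_H (m + 1)
      · exact hH0 (n + 1) (m + 1) (by omega)
    exact subsingleton_mid h1 h4 _ _ ((S2 (n + 1)).exact_left (m + 1))

section P

variable {P : ℕ → Type u} [∀ n, AddCommGroup (P n)] [∀ n, Module R (P n)] {d : ∀ n, P n →ₗ[R] P (n + 1)}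
  {w : ∀ n, P n →ₗ[R] K n}

omit [Module.Flat R B] in
theorem mem_cocycles_zero' {X : Type u} [AddCommGroup X] [Module R X] [HopfRep.Comod R B X] (x : X) :
    Hoch.d R B X 0 x = 0 ↔ HopfRep.Comod.coact (k := R) (A := B) x = x ⊗ₜ[R] (1 : B) := by
  rw [Hoch.d_zero_apply, sub_eq_zero]

/-- `P n → H^0(K n)` -/
def EP (hw : ∀ n x, HopfRep.Comod.coact (k := R) (A := B) x = x ⊗ₜ[R] (1 : B) ↔ ∃ m, w n m = x) (n : ℕ) :
    P n →ₗ[R] Hoch.H R B (K n) 0 :=
  (Hoch.H.mk R B (K n) 0) ∘ₗ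
    { toFun := fun m => ⟨w n m, (mem_cocycles_zero' (w n m)).mpr ((hw n _).mpr ⟨m, rfl⟩)⟩
      map_add' := fun a b => Subtype.ext (map_add (w n) a b)
      map_smul' := fun a b => Subtype.ext (map_smul (w n) a b) }

omit [Module.Flat R B] in
theorem EP_bijective (hwi : ∀ n, Function.Injective (w n))
    (hw : ∀ n x, HopfRep.Comod.coact (k := R) (A := B) x = x ⊗ₜ[R] (1 : B) ↔ ∃ m, w n m = x) (n : ℕ) :
    Function.Bijective (EP hw n) := by
  constructor
  · rw [injective_iff_map_eq_zero]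
    intro m hm
    have h1 := (mk_eq_zero_iff R B 0 ⟨w n m, (mem_cocycles_zero' (w n m)).mpr ((hw n _).mpr ⟨m, rfl⟩)⟩).mp hm
    have h2 : w n m = 0 := h1
    exact hwi n (h2.trans (map_zero _).symm)
  · intro x
    obtain ⟨z, rfl⟩ := mk_surj R B 0 x
    have hz : Hoch.d R B (K n) 0 z = 0 := z.2
    obtain ⟨m, hm⟩ := (hw n _).mp ((mem_cocycles_zero' _).mp hz)
    refine ⟨m, ?_⟩
    change Hoch.H.mk R B (K n) 0 _ = _
    congr 1
    exact Subtype.ext hm

omit [Module.Flat R B] in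
theorem EP_d (S1 : ∀ n, SES R B (i n) (p n)) (S2 : ∀ n, SES R B (j n) (q n))
    (hw : ∀ n x, HopfRep.Comod.coact (k := R) (A := B) x = x ⊗ₜ[R] (1 : B) ↔ ∃ m, w n m = x)
    (hd : ∀ n m, i (n + 1) (j (n + 1) (p n (w n m))) = w (n + 1) (d n m)) (n : ℕ) (m : P n) :
    EP hw (n + 1) (d n m) = Hmap R B (S1 (n + 1)).hf 0 (Hmap R B (S2 (n + 1)).hf 0
      (Hmap R B (S1 n).hg 0 (EP hw n m))) := by
  change Hoch.H.mk R B (K (n + 1)) 0 _ = Hoch.H.mk R B (K (n + 1)) 0 _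
  congr 1
  exact Subtype.ext (hd n m).symm

theorem ker_d_le (S1 : ∀ n, SES R B (i n) (p n)) (S2 : ∀ n, SES R B (j n) (q n))
    (hw : ∀ n x, HopfRep.Comod.coact (k := R) (A := B) x = x ⊗ₜ[R] (1 : B) ↔ ∃ m, w n m = x)
    (hd : ∀ n m, i (n + 1) (j (n + 1) (p n (w n m))) = w (n + 1) (d n m)) (n : ℕ) (m : P n) (hm : d n m = 0) :
    ∃ z : Hoch.H R B (Z n) 0, Hmap R B (S1 n).hf 0 z = EP hw n m := by
  have h1 := EP_d S1 S2 hw hd n m
  rw [hm, map_zero] at h1
  have h2 := (S2 (n + 1)).injective_zero (((S1 (n + 1)).injective_zero (h1.symm.trans (map_zero _).symm)).trans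
    (map_zero _).symm)
  exact ((S1 n).exact_left 0 _).mp h2

/-- the core of `(c2)` -/
theorem core_succ (S1 : ∀ n, SES R B (i n) (p n)) (S2 : ∀ n, SES R B (j n) (q n))
    (hwi : ∀ n, Function.Injective (w n))
    (hw : ∀ n x, HopfRep.Comod.coact (k := R) (A := B) x = x ⊗ₜ[R] (1 : B) ↔ ∃ m, w n m = x)
    (hd : ∀ n m, i (n + 1) (j (n + 1) (p n (w n m))) = w (n + 1) (d n m)) (n : ℕ)
    (T1 : Submodule R (Hoch.H R B (Z (n + 1)) 0))
    (hT1 : ∀ z, ∃ s ∈ T1, Hmap R B (S2 (n + 1)).hg 0 (z - s) = 0)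
    (T2 : Submodule R (Hoch.H R B (C (n + 1)) 0)) (hT2 : ∀ z, ∃ s ∈ T2, (S1 n).del 0 (z - s) = 0) :
    LinearMap.ker (d (n + 1)) ≤
      ((T1.map (Hmap R B (S1 (n + 1)).hf 0) ⊔
        T2.map (Hmap R B (S1 (n + 1)).hf 0 ∘ₗ Hmap R B (S2 (n + 1)).hf 0)).map
          (LinearEquiv.ofBijective (EP hw (n + 1)) (EP_bijective hwi hw (n + 1))).symm.toLinearMap) ⊔
      Bd d (fun _ => ⊤) (n + 1) := by
  intro m hm
  set E := LinearEquiv.ofBijective (EP hw (n + 1)) (EP_bijective hwi hw (n + 1)) with hE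
  obtain ⟨z, hz⟩ := ker_d_le S1 S2 hw hd (n + 1) m hm
  obtain ⟨s, hs, hzs⟩ := hT1 z
  obtain ⟨c, hc⟩ := ((S2 (n + 1)).exact_left 0 _).mp hzs
  obtain ⟨t, ht, hct⟩ := hT2 c
  obtain ⟨k, hk⟩ := ((S1 n).exact_mid 0 _).mp hct
  obtain ⟨m', rfl⟩ := (EP_bijective hwi hw n).2 k
  have e1 := EP_d S1 S2 hw hd n m'
  have e2 : c = Hmap R B (S1 n).hg 0 (EP hw n m') + t := by rw [hk]; abel
  have e3 : z = Hmap R B (S2 (n + 1)).hf 0 c + s := by rw [hc]; abel
  have e4 : EP hw (n + 1) m = (Hmap R B (S1 (n + 1)).hf 0 s +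
      Hmap R B (S1 (n + 1)).hf 0 (Hmap R B (S2 (n + 1)).hf 0 t)) + EP hw (n + 1) (d n m') := by
    rw [← hz, e3, e2, e1]
    simp only [map_add]
    abel
  have e5 : m = E.symm (Hmap R B (S1 (n + 1)).hf 0 s +
      Hmap R B (S1 (n + 1)).hf 0 (Hmap R B (S2 (n + 1)).hf 0 t)) + d n m' := by
    apply E.injective
    rw [map_add, LinearEquiv.apply_symm_apply]
    exact e4
  rw [e5]
  refine Submodule.add_mem_sup ⟨_, ?_, rfl⟩ ⟨m', trivial, rfl⟩
  exact Submodule.add_mem_sup ⟨s, hs, rfl⟩ ⟨t, ht, rfl⟩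

/-- `(c2)`, finiteness -/
theorem dimShift_ker_fg [IsNoetherianRing R] (S1 : ∀ n, SES R B (i n) (p n)) (S2 : ∀ n, SES R B (j n) (q n))
    (hC : Subsingleton (C 0)) (hK : ∀ n m, 0 < m → Subsingleton (Hoch.H R B (K n) m))
    (hH : ∀ n m, Module.Finite R (Hoch.H R B (H n) m)) (hwi : ∀ n, Function.Injective (w n))
    (hw : ∀ n x, HopfRep.Comod.coact (k := R) (A := B) x = x ⊗ₜ[R] (1 : B) ↔ ∃ m, w n m = x)
    (hd : ∀ n m, i (n + 1) (j (n + 1) (p n (w n m))) = w (n + 1) (d n m)) (n : ℕ) :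
    ∃ S : Submodule R (P n), S.FG ∧ LinearMap.ker (d n) ≤ S ⊔ Bd d (fun _ => ⊤) n := by
  cases n with
  | zero =>
    have := hH 0 0
    obtain ⟨T1, h1, h2⟩ := exists_fg_top (Hmap R B (S2 0).hg 0)
    refine ⟨(T1.map (Hmap R B (S1 0).hf 0)).map
      (LinearEquiv.ofBijective (EP hw 0) (EP_bijective hwi hw 0)).symm.toLinearMap, (h1.map _).map _, ?_⟩
    intro m hm
    obtain ⟨z, hz⟩ := ker_d_le S1 S2 hw hd 0 m hm
    obtain ⟨s, hs, hzs⟩ := h2 z
    obtain ⟨c, hc⟩ := ((S2 0).exact_left 0 _).mp hzs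
    have h3 : Subsingleton (Hoch.H R B (C 0) 0) := subsingleton_H 0
    rw [Subsingleton.elim c 0, map_zero, eq_comm, sub_eq_zero] at hc
    refine Submodule.mem_sup_left ⟨_, ⟨s, hs, rfl⟩, ?_⟩
    rw [← hc, hz]
    exact LinearEquiv.symm_apply_apply (LinearEquiv.ofBijective (EP hw 0) (EP_bijective hwi hw 0)) m
  | succ n =>
    have := hH (n + 1) 0
    have := dimShift_finite S1 S2 hC hK hH n 0
    obtain ⟨T1, h1, h2⟩ := exists_fg_top (Hmap R B (S2 (n + 1)).hg 0)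
    obtain ⟨T2, h3, h4⟩ := exists_fg_top ((S1 n).del 0)
    exact ⟨_, ((h1.map _).sup (h3.map _)).map _, core_succ S1 S2 hwi hw hd n T1 h2 T2 h4⟩

/-- `(c2)`, vanishing -/
theorem dimShift_ker_zero (S1 : ∀ n, SES R B (i n) (p n)) (S2 : ∀ n, SES R B (j n) (q n))
    (hC : Subsingleton (C 0)) (hK : ∀ n m, 0 < m → Subsingleton (Hoch.H R B (K n) m)) {r₀ r : ℕ}
    (hH0 : ∀ n m, r₀ < m → Subsingleton (Hoch.H R B (H n) m)) (hHr : ∀ n, r < n → Subsingleton (H n))
    (hwi : ∀ n, Function.Injective (w n))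
    (hw : ∀ n x, HopfRep.Comod.coact (k := R) (A := B) x = x ⊗ₜ[R] (1 : B) ↔ ∃ m, w n m = x)
    (hd : ∀ n m, i (n + 1) (j (n + 1) (p n (w n m))) = w (n + 1) (d n m)) (n : ℕ) (hn : r₀ + r < n) :
    LinearMap.ker (d n) ≤ Bd d (fun _ => ⊤) n := by
  obtain ⟨n, rfl⟩ : ∃ n', n = n' + 1 := ⟨n - 1, by omega⟩
  have h0 : Subsingleton (H (n + 1)) := hHr (n + 1) (by omega)
  have h1 : Subsingleton (Hoch.H R B (H (n + 1)) 0) := subsingleton_H 0
  have h2 : Subsingleton (Hoch.H R B (Z n) (0 + 1)) := dimShift_zero S1 S2 hC hK hH0 hHr n 0 (by omega)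
  have h3 := core_succ S1 S2 hwi hw hd n ⊥ (fun z => ⟨0, Submodule.zero_mem _, Subsingleton.elim _ _⟩) ⊥
    (fun z => ⟨0, Submodule.zero_mem _, Subsingleton.elim _ _⟩)
  rw [Submodule.map_bot, Submodule.map_bot, sup_bot_eq, Submodule.map_bot, bot_sup_eq] at h3
  exact h3

end P

end Groth.Agent.ResProp.EF.K416
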