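import Groth.Agent.ResProp.EF.K199.GPart2

/-!
# A torsor with a section is trivial, hence faithfully flat (S16912, G1, G-part (c); helper416)

`D` with a coaction `ρ` of `O` over `k`, `B → D` with `ρ = (· ⊗ 1)` on `B`, two points of `D` equal on `B` differ by exactly
one point of `O`, and `B → D` has a retraction: then `D ≃ B ⊗[k] O` over `B`.
-/

set_option autoImplicit false

universe u

open TensorProduct

noncomputable section

namespace Groth.Agent.ResProp.EF.K416

open K199 (PtsGal pair)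

variable {k O D B : Type u} [CommRing k] [CommRing O] [Algebra k O] [CommRing D] [Algebra k D] [CommRing B]
  [Algebra k B] [Algebra B D] [IsScalarTower k B D] (ρ : D →ₐ[k] D ⊗[k] O) (ret : D →ₐ[k] B)

/-- `d ↦ (ret ⊗ 1) (ρ d)` -/
def phi0 : D →ₐ[k] B ⊗[k] O := (Algebra.TensorProduct.map ret (AlgHom.id k O)).comp ρ

omit [Algebra B D] [IsScalarTower k B D] in
theorem phi0_eq (d : D) : phi0 ρ ret d =
    pair ((Algebra.TensorProduct.includeLeft : B →ₐ[k] B ⊗[k] O).comp ret)
      (Algebra.TensorProduct.includeRight : O →ₐ[k] B ⊗[k] O) (ρ d) := by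
  change Algebra.TensorProduct.map ret (AlgHom.id k O) (ρ d) = _
  congr 1
  apply Algebra.TensorProduct.ext'
  intro a b
  simp [pair]

omit [Algebra B D] [IsScalarTower k B D] [CommRing B] [Algebra k B] in
theorem pair_comp {T T' : Type u} [CommRing T] [Algebra k T] [CommRing T'] [Algebra k T'] (g : T →ₐ[k] T')
    (f : D →ₐ[k] T) (h : O →ₐ[k] T) (z : D ⊗[k] O) : g (pair f h z) = pair (g.comp f) (g.comp h) z := by
  have : g.comp (pair f h) = pair (g.comp f) (g.comp h) := by
    apply Algebra.TensorProduct.ext'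
    intro a b
    simp [pair]
  exact DFunLike.congr_fun this z

theorem faithfullyFlat_of_section [Module.FaithfullyFlat k O]
    (hfix : ∀ b : B, ρ (algebraMap B D b) = algebraMap B D b ⊗ₜ[k] (1 : O))
    (hret : ∀ b : B, ret (algebraMap B D b) = b) (hpts : PtsGal B ρ) : Module.FaithfullyFlat B D := by
  let ι : B →ₐ[k] D := IsScalarTower.toAlgHom k B D
  have hι : ∀ b, ι b = algebraMap B D b := fun _ => rfl
  -- the group valued function `h`
  obtain ⟨h, hh, -⟩ := hpts D (ι.comp ret) (AlgHom.id k D) (fun b => by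
    rw [AlgHom.comp_apply, hret, hι, AlgHom.id_apply])
  have hh' : ∀ d, d = pair (ι.comp ret) h (ρ d) := hh
  have hφB : ∀ b : B, phi0 ρ ret (algebraMap B D b) = b ⊗ₜ[k] (1 : O) := fun b => by
    change Algebra.TensorProduct.map ret (AlgHom.id k O) (ρ (algebraMap B D b)) = _
    rw [hfix, Algebra.TensorProduct.map_tmul, hret, map_one]
  -- the inverse
  let ψ : B ⊗[k] O →ₐ[k] D := Algebra.TensorProduct.lift ι h (fun _ _ => Commute.all _ _)
  have hψφ : ∀ d, ψ (phi0 ρ ret d) = d := fun d => by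
    conv_rhs => rw [hh' d]
    rw [phi0_eq, pair_comp ψ]
    congr 1
    congr 1
    · ext d
      simp [ψ]
    · ext o
      simp [ψ]
  have hφh : (phi0 ρ ret).comp h = (Algebra.TensorProduct.includeRight : O →ₐ[k] B ⊗[k] O) := by
    obtain ⟨h', -, hu⟩ := hpts (B ⊗[k] O) ((Algebra.TensorProduct.includeLeft : B →ₐ[k] B ⊗[k] O).comp ret)
      (phi0 ρ ret) (fun b => by
        rw [hφB, AlgHom.comp_apply, hret]
        rfl)
    refine (hu ((phi0 ρ ret).comp h) (fun d => ?_)).trans (hu _ (fun d => phi0_eq ρ ret d)).symm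
    have h1 := congrArg (phi0 ρ ret) (hh' d)
    rw [pair_comp (phi0 ρ ret)] at h1
    refine h1.trans ?_
    congr 1
    congr 1
    ext d
    change phi0 ρ ret (algebraMap B D (ret d)) = ret d ⊗ₜ[k] (1 : O)
    rw [hφB]
  have hφψ : ∀ z, phi0 ρ ret (ψ z) = z := by
    intro z
    have : (phi0 ρ ret).comp ψ = AlgHom.id k _ := by
      apply Algebra.TensorProduct.ext'
      intro b o
      have e1 : ψ (b ⊗ₜ[k] o) = algebraMap B D b * h o := by
        change Algebra.TensorProduct.lift ι h _ (b ⊗ₜ[k] o) = _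
        rw [Algebra.TensorProduct.lift_tmul]
        rfl
      have e2 : phi0 ρ ret (h o) = (1 : B) ⊗ₜ[k] o := DFunLike.congr_fun hφh o
      rw [AlgHom.comp_apply, e1, map_mul, hφB, e2, Algebra.TensorProduct.tmul_mul_tmul, mul_one, one_mul]
      rfl
    exact DFunLike.congr_fun this z
  let e : (B ⊗[k] O) ≃ₗ[B] D :=
    { toFun := ψ
      invFun := phi0 ρ ret
      left_inv := hφψ
      right_inv := hψφ
      map_add' := map_add ψ
      map_smul' := fun b z => by
        have : b • z = (b ⊗ₜ[k] (1 : O)) * z := by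
          rw [Algebra.smul_def]
          rfl
        rw [this, map_mul, RingHom.id_apply, Algebra.smul_def]
        congr 1
        change Algebra.TensorProduct.lift ι h _ (b ⊗ₜ[k] (1 : O)) = _
        rw [Algebra.TensorProduct.lift_tmul, map_one, mul_one]
        rfl }
  exact Module.FaithfullyFlat.of_linearEquiv B (B ⊗[k] O) e.symm

end Groth.Agent.ResProp.EF.K416

/-! ## The application to `F.R[1/s_IJ]` -/

noncomputable section

open Groth.Agent.Grpsch.AffGrpd Groth.Agent.ResProp.EF.K412 Groth.Agent.ResProp.EF.K62 TensorProduct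

namespace Groth.Agent.ResProp.EF.K416

open K199 K199.GPart

variable {A B : Type u} [CommRing A] [CommRing B] {Lb : Type u} [CommRing Lb] [Algebra Lb A] {G : RGrpd A B}
  {D : Gen Lb G} {k : Type u} [Field k] {x : A →+* k} (F : FrRing D x)
  (I : Fin F.r1 → Fin D.n) (J : Fin F.rm → (Fin D.m → Fin D.n))
  (Ds : Type u) [CommRing Ds] [Algebra F.R Ds] [Algebra A Ds] [IsScalarTower A F.R Ds]
  [IsLocalization.Away (sIJ F I J) Ds] [Algebra Lb Ds] [IsScalarTower Lb F.R Ds] [IsScalarTower Lb A Ds]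
  {O : Type u} [CommRing O] [Bialgebra Lb O] {X : Matrix (Fin F.r1) (Fin F.r1) O}
  {Xm : Matrix (Fin F.rm) (Fin F.rm) O} (hX : IsMulMat Lb X) (hXm : IsMulMat Lb Xm)
  (ρs : Ds →ₐ[Lb] Ds ⊗[Lb] O)
  (hρs : ∀ r : F.R, ρs (algebraMap F.R Ds r) =
    Algebra.TensorProduct.map (IsScalarTower.toAlgHom Lb F.R Ds) (AlgHom.id Lb O) (rho F hX hXm r))

include hρs in
/-- **`BIJ → F.R[1/s_IJ]` is faithfully flat.** -/
theorem faithfullyFlat_BIJ [Module.FaithfullyFlat Lb O] (hOG : IsUnivGL Lb X Xm) :
    Module.FaithfullyFlat (BIJ F I J Ds) Ds :=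
  faithfullyFlat_of_section ρs ((retA F I J Ds).restrictScalars Lb) (rho_fix F I J Ds hX hXm ρs hρs)
    (retA_coe F I J Ds) (ptsGal F I J Ds hX hXm ρs hρs hOG)

end Groth.Agent.ResProp.EF.K416
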