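import Groth.Agent.ResProp.EF.K416.GFlat
import Groth.Agent.ResProp.EF.K601.FinK
import Groth.Agent.ResProp.EF.K541.CoLoc
import Groth.Agent.ResProp.EF.K819.N4s

/-!
# The Galois charts of `F.R` (S16912, G1, G-part; helper416)

`gpartL`, `gpart_gen`, `gpartGK` : `K601.GK A (K62.coAlg F hX hXm) Z` with `s = K819.sIJ F`.
-/

set_option autoImplicit false

universe u

noncomputable section

open Groth.Agent.Grpsch.AffGrpd Groth.Agent.ResProp.EF.K412 Groth.Agent.ResProp.EF.K62 TensorProduct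

namespace Groth.Agent.ResProp.EF.K416

open K199 K199.GPart

variable {A B : Type u} [CommRing A] [CommRing B] {Lb : Type u} [CommRing Lb] [Algebra Lb A] {G : RGrpd A B}
  {D : Gen Lb G} {k : Type u} [Field k] {x : A →+* k} (F : FrRing D x)
  {O : Type u} [CommRing O] [HopfAlgebra Lb O] {X : Matrix (Fin F.r1) (Fin F.r1) O}
  {Xm : Matrix (Fin F.rm) (Fin F.rm) O} (hX : IsMulMat Lb X) (hXm : IsMulMat Lb Xm)

theorem rho_s819 (z : (Fin F.r1 → Fin D.n) × (Fin F.rm → (Fin D.m → Fin D.n))) :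
    (K62.coAlg F hX hXm).ρ (K819.sIJ F z) = K819.sIJ F z ⊗ₜ[Lb] K62.chi F X Xm :=
  K62.rho_sIJ F hX hXm z.1 z.2

/-- the chart `F.R[1/s_IJ]` -/
def gpartL [Module.FaithfullyFlat Lb O] (hOG : IsUnivGL Lb X Xm)
    (z : (Fin F.r1 → Fin D.n) × (Fin F.rm → (Fin D.m → Fin D.n))) :
    K541.LocK A (K62.coAlg F hX hXm) (K819.sIJ F z) :=
  haveI : IsLocalization.Away (K62.sIJ F z.1 z.2) (Localization.Away (K819.sIJ F z)) :=
    inferInstanceAs (IsLocalization.Away (K819.sIJ F z) (Localization.Away (K819.sIJ F z)))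
  { Ds := Localization.Away (K819.sIJ F z)
    cs := K541.coLoc (K62.coAlg F hX hXm) (Localization.Away (K819.sIJ F z)) (K62.isGroupLike_chi F hX hXm)
      (rho_s819 F hX hXm z)
    compat := K541.coLoc_compat (K62.coAlg F hX hXm) (Localization.Away (K819.sIJ F z))
      (K62.isGroupLike_chi F hX hXm) (rho_s819 F hX hXm z)
    B := BIJ F z.1 z.2 (Localization.Away (K819.sIJ F z))
    ff := faithfullyFlat_BIJ F z.1 z.2 _ hX hXm _ (K541.coLoc_compat (K62.coAlg F hX hXm)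
      (Localization.Away (K819.sIJ F z)) (K62.isGroupLike_chi F hX hXm) (rho_s819 F hX hXm z)) hOG
    fix := rho_fix F z.1 z.2 _ hX hXm _ (K541.coLoc_compat (K62.coAlg F hX hXm)
      (Localization.Away (K819.sIJ F z)) (K62.isGroupLike_chi F hX hXm) (rho_s819 F hX hXm z))
    pts := ptsGal F z.1 z.2 _ hX hXm _ (K541.coLoc_compat (K62.coAlg F hX hXm)
      (Localization.Away (K819.sIJ F z)) (K62.isGroupLike_chi F hX hXm) (rho_s819 F hX hXm z)) hOG }

theorem gpart_gen [Module.FaithfullyFlat Lb O] (hOG : IsUnivGL Lb X Xm)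
    (z : (Fin F.r1 → Fin D.n) × (Fin F.rm → (Fin D.m → Fin D.n))) (b : (gpartL F hX hXm hOG z).B) :
    b ∈ Algebra.adjoin A {y : (gpartL F hX hXm hOG z).B | ∃ j,
      algebraMap (gpartL F hX hXm hOG z).B (gpartL F hX hXm hOG z).Ds y *
        algebraMap F.R (gpartL F hX hXm hOG z).Ds (K819.sIJ F z) =
      algebraMap F.R (gpartL F hX hXm hOG z).Ds (K819.sIJ F j)} := by
  have h := adjoin_eq F z.1 z.2 (Localization.Away (K819.sIJ F z)) b
  refine Algebra.adjoin_mono ?_ h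
  rintro y ⟨I', J', hy⟩
  exact ⟨(I', J'), hy⟩

/-- **the G-part** -/
def gpartGK [Module.FaithfullyFlat Lb O] (hOG : IsUnivGL Lb X Xm) :
    K601.GK A (K62.coAlg F hX hXm) ((Fin F.r1 → Fin D.n) × (Fin F.rm → (Fin D.m → Fin D.n))) where
  χ := K62.chi F X Xm
  hχ := K62.isGroupLike_chi F hX hXm
  s := K819.sIJ F
  hs := rho_s819 F hX hXm
  loc := gpartL F hX hXm hOG
  gen := gpart_gen F hX hXm hOG

theorem gpartGK_s [Module.FaithfullyFlat Lb O] (hOG : IsUnivGL Lb X Xm) : (gpartGK F hX hXm hOG).s = K819.sIJ F := rfl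

end Groth.Agent.ResProp.EF.K416
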